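import Mathlib
import Cfsg.Agent.Lib.Fi24.Cen

/-! Type M(24): the order of the centraliser of a product of four commuting transpositions (helper96). Generated by tools/fi24. -/

set_option autoImplicit false
set_option maxRecDepth 100000
set_option Elab.async false

namespace H96.F24

open Subgroup H7 H54 H56 H94 Cfsg H96.Ls

/-- `l a c e` -/
noncomputable def zW : W := .cons 0 (.cons 2 (.cons 4 (.cons 6 .nil)))
noncomputable def L4 : List ℕ := (unp 19 516 0x95d052ba0656e7cadce95b392b66656cc4ad9595b252b64656c5cad83958192b02a56044ac07958072affe55ff4abf8956952ad22559ecab3a956672aca655934ab0b955492aa8e5535caa6a953cf2a77a54dbca9b6953292a64e54a84a94f9529d2a53653bbca77594ed529da653b2ca76394e8529cfe5331ca65b94cb52974a52e8ca5ad94b272964a52a24a543949d7293aa52744a4e7948e7291ca5234ca45a9486128bde51734a2e5944c5287a6505bca0b693fc927b324f65c9bed937d926fa24de649b8293513262964c2c498379306b25b664b6bc953a928a92514e49d0483dd7a594e4b2979c72b38e4a74074e80d1ff9a1942fd5e5f65cb5151698c2ce4a59184b1ec162042c2f257430ae7b95cdf2b9b656aeca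d5c94dd4281d650358a05a940b42814e4f2309df393b9f277384ee1c9db113b61276a84ebe89d1a139e8273844e6fc9cd4939a82734c4bc7897761299d2521a49b5c931c924792487c48a4c910b921792414c47ff48eaa11d5223a7c474f08e9211d21236ca46d8c8db111b112360445ab48b439166921af6415d082b09054c20a964150482359046a208d04116c82221044320876404748074100e5201ac402fc805f100b4200284004c8008900041ffd63ffa87ff10ff071fe083fbec7f7d0fef91fde63fbc87f788fe731fce43f9c07f350fe571fcac3f9547eb40fb861f5b43eb207d3e0fa601f3d23d8247ac98ee2a1db7a3ab7c75450e8471cc2e39854730a0e6011cc003979c72430e4851c8b4390dc72100e0b91c15c3829070518e09d1bf9e37ec86fd78dfa61bf3237e606fc90df5a1beb037d4c6fa90df511be9a37d306fa58dd2e1a2963452868a40d13c1a254344a468910d08f1a11c3423468428d07419bb63376866ec0cdd419b9c336ec66dd0cdb319a863350866a08cd3919a4e331a866348cc68198ce33180662f8cc5e198063300866008cbfb197d632cb464518c89418fa0311045f290bbe0175582e53c5bc18b78216ede2d9285b118b60a16bce2ca1c59430b284164fa2c9cc59390b26d1632e2c65858ca0b18e163062c60858be8b13f1627c2c4f4589e0b1371626c2c4d452f08a5e014bbe2975c5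2e40a562146c828d8c51b10a35b1469628be8512d0a259144b02895851270a20c142ca27bf44f7889e4d13a5c24f24488108ff61191623228464488c83118f422f2845e488bc81178622ee445c008b7f116fc22df045bb082841017c1fffc3fea8742d0e3981c69038d1870ff0dbc21b53c368b0646b0c880166642ccc058f60b1ae162e82c5c858500b088153f0273584e4c08e4c11bc022e7045cd08b701151822988451b089a211328210103d2007a100dd6c1b978363306b9e0d5f4198902f6b0559c0aaa014f202488048f8080080ffa01f2303b3406ebc0dd3818d1030260602c0bf2817d102ece05d800bad8160702966049a008f3011cd02394046f408de01161022b00454c081e00d8e01af6035d0069380d2401a3403464067480cc2013d00278c04d6009a30109801d3403a48072a00dd00189003118054e00a9a01474028e004c300912012200201003eb007d400f2001e3003c50078800e0401ab802f1005c000b1c0162002c300518008880101801fe0037e006f800de80167002cc0059400b20013a0023c00410007f000f7001ea003180059800ae0014c00218003c00074000e200060000300000)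
/-- the 504 points fixed by `l a c e` -/
noncomputable def Y4 : List ℕ := (unp 19 504 0x95d052ba0656e7cadce95b392b66656cc4ad9595b252b64656c5cad83958192b02a56044ac07958072affe55ff4abf8956952ad22559ecab3a956672aca655934ab0b955492aa8e5535caa6a953cf2a77a54dbca9b6953292a64e54a84a94f9529d2a53653bbca77594ed529da653b2ca76394e8529cfe5331ca65b94cb52974a52e8ca5ad94b272964a52a24a543949d7293aa52744a4e7948e7291ca5234ca45a9486128bde51734a2e5944c5287a6505bca0b693fc927b324f65c9bed937d926fa24de649b8293513262964c2c498379306b25b664b6bc953a928a92514e49d0483dd347fe68650bf5797d972d4545a630b392964612c7b058810ae8615cf72b9be5736cad5d95ab9281d650358a05a940b42814e4f2309df393b9f277384ee1c9db113b61276a84ebe89d1a139e8273844e6fc9cd4939a82734c4bc7897761299d2521a49b5c931c924792487c48a4c910b920a623ffa475508ea911d3e23a78474908e9091b65236c646d888d8891b0222d5a45a1c8b3490d7b20ae84158482a61054b20a82411ac823510468208b64111082219043b2023a403a08072900d62017e402f8805a10014200264004480020ffeb1ffd43ff887f838ff041fdf63fbe87f7c8fef31fde43fbc47f398fe721fce03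f9a87f2b8fe561fcaa3f5a07dc30fada1f5903e9f07d300f9e91ec123d64c77150edbd1d5be3aa2874238e6171cc2a3985073008e6001cbce3921872428e45a1c86e39080705c8e0ae1c1483828c704e8dfcf1bf6437ebc6fd30df991bf3037e486fad0df581bea637d486fa88df4d1be9837d2c68a58d14a1a290344f068950d1291a2443423c68470d08d1a10a341d066ed8cdda19bb03373866dd8cdba19b663350c66a10cd4119a723349c66350cc69198d03319c66300cc5f198bc3300c66010cc01197f632fac65968c8a31912831f4062208be52177c02eab05ca78b78316f042ddbc5b250b62316c142d79c59438b286165082c9f459398b272164da2c65c58cb0b1941631c2c60c58c10b17d1627e2c4f8589e8b13c1626e2c4d8589a8a5e114bc02977c52eb8a5c814ac428d9051b18a362146b628d2c517d0a25a144b228960512b0a24e14418285944f7e89ef113c9a24f24488108ff61191623228464488c83118f422f2845e488bc81178622ee445c008b7f116fc22df045bb082841017c1fffc3fea8742d0e3981c69038d1870ff0dbc21b53c368b0646b0c880166642ccc058f60b1ae162e82c5c858500b088153f0273584e4c08e4c11bc022e7045cd08b701151822988451b089a211328210103d2007a100dd6c1b978363306b9e0d5f4198902f6b0559c0aaa014f202488048f8080080ffa01f2303b3406ebc0dd3818d1030260602c0bf2817d102ece05d800bad8160702966049a008f3011cd02394046f408de01161022b00454c081e00d8e01af6035d0069380d2401a3403464067480cc2013d00278c04d6009a30109801d3403a48072a00dd00189003118054e00a9a01474028e004c300912012200201003eb007d400f2001e3003c50078800e0401ab802f1005c000b1c0162002c300518008880101801fe0037e006f800de80167002cc0059400b20013a0023c00410007f000f7001ea003180059800ae0014c00218003c00074000e200060000300000)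

theorem k4_1 : stepOk A zW 0 14 A.all (maskL L4) = true := by decide +kernel
theorem k4_2 : filtOk A [zW] L4 Y4 = true := by decide +kernel
theorem k4_3 : fixL A [zW] Y4 = true := by decide +kernel
theorem k4_4 : band (A.ltL Y4) (incr Y4 0) = true := by decide +kernel
theorem k4_5 : Y4.length = 504 := by decide +kernel

theorem card_cent3 {a b c : Γ} (h : Clq DΓ [c, b, a]) : Nat.card (centralizer {c, b, a}) = 53084160 := by
  have := fin23
  have ha := h.mem a (by simp)
  have hb := h.mem b (by simp)
  have ne : b ≠ a := by simpa using h.tail.nd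
  have c0 := h.cm b (by simp) a (by simp)
  have := card_eq_of_cls' (H := centralizer {a, b}) (y := c) (T := {y | y ∈ DΓ ∧ Commute [b, a].prod y} \ {b, a})
    fun z => ⟨fun hz => by
      obtain ⟨g, e⟩ := F23.clq_conj M23 h (h.tail.cons hz.1.1 (by simpa using hz.2) fun u hu =>
        ((F23.clq_fix M23 h.tail (by simp) hz.1.1).1 hz.1.2 u hu).symm) rfl (by simp)
      simp only [List.map_cons, List.map_nil, List.cons.injEq, and_true] at e
      refine ⟨g, ?_, e.1.symm⟩
      rintro _ (rfl | rfl)
      exacts [(conj_eq_self_iff.1 e.2.2.symm).symm, (conj_eq_self_iff.1 e.2.1.symm).symm], by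
      rintro ⟨g, hg, rfl⟩
      have k := h.conj M23.tt g
      simp only [List.map_cons, List.map_nil, conj_eq_self_iff.2 (hg a (Or.inl rfl) : Commute a g).symm,
        conj_eq_self_iff.2 (hg b (Or.inr rfl) : Commute b g).symm] at k
      exact ⟨⟨k.mem _ (by simp), by
        simpa using (k.cm b (by simp) _ (by simp)).mul_left (k.cm a (by simp) (g * c * g⁻¹) (by simp))⟩,
        by simpa using (List.nodup_cons.1 k.nd).1⟩⟩
  rw [F23.card_cent2 M23 h.tail, Set.ncard_sdiff (by
      rintro _ (rfl | rfl)
      exacts [⟨hb, by simpa using (Commute.refl _).mul_left c0.symm⟩, ⟨ha, by simpa using c0.mul_left (Commute.refl _)⟩]),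
    F23.clq_ncard M23 h.tail (by simp), Set.ncard_pair ne] at this
  rw [show centralizer {c, b, a} = centralizer {a, b} ⊓ centralizer {c} by
    ext g; simp [mem_centralizer_iff]; tauto]
  change 36787322880 = 693 * _ at this
  omega

theorem card_cent3' {ys : List Γ} (h : Clq DΓ ys) (h3 : ys.length = 3) :
    Nat.card (centralizer {ys.prod}) = 318504960 := by
  have := fin23
  obtain ⟨c, b, a, rfl⟩ := List.length_eq_three.1 h3
  obtain ⟨φ, φ1, φ2⟩ := exists_symHom M23.tt (d := ![c, b, a]) h
    (fun l hl e p => F23.clq_uniq M23 h hl e (by simp) p) fun l hl e => F23.clq_conj M23 h hl e (by simp)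
  have c1 := card_ker_mul φ φ1
  have le : centralizer (Set.range ![c, b, a]) ≤ centralizer {(List.ofFn ![c, b, a]).prod} :=
    fun g hg => mem_centralizer_singleton_iff.2
      (Commute.list_prod_right _ _ fun y hy => (hg y ((List.mem_ofFn' _ _).1 hy) : Commute y g).symm)
  rw [φ2, Nat.card_congr (subgroupOfEquivOfLe le).toEquiv,
    show Set.range ![c, b, a] = {c, b, a} by ext; simp [Matrix.range_cons, Matrix.range_empty]; tauto, card_cent3 h,
    Nat.card_perm, Nat.card_fin] at c1
  exact c1.symm

variable {G : Type*} [Group G] {D : Set G} (M : Model24 G D)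

/-- the standard product of four -/
noncomputable def z4 : G := (env M).ev zW

theorem z4_eq : z4 M = [M.x 0, M.x 6, M.x 24, M.x 113].prod := by
  show (env M).s 0 * ((env M).s 2 * ((env M).s 4 * ((env M).s 6 * 1))) = _
  rw [env_s M (by norm_num), env_s M (by norm_num), env_s M (by norm_num), env_s M (by norm_num)]
  exact congrArg List.prod (congrArg (List.map M.x)
    (show [idx24 0, idx24 2, idx24 4, idx24 6] = [0, 6, 24, 113] by decide +kernel))

theorem clq4 : Clq D [M.x 0, M.x 6, M.x 24, M.x 113] := by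
  have m : ∀ p ∈ [0, 6, 24, 113], p ∈ Om := by decide +kernel
  exact ⟨(show [0, 6, 24, 113].Nodup by decide).map_on fun p hp q hq =>
      M.x_inj (Om_lt (m p hp)) (Om_lt (m q hq)),
    (List.forall_mem_map (l := [0, 6, 24, 113])).2 fun p hp => M.x_mem (Om_lt (m p hp)),
    (List.forall_mem_map (l := [0, 6, 24, 113])).2 fun p hp => (List.forall_mem_map (l := [0, 6, 24, 113])).2
      fun q hq => Om_comm M (m p hp) (m q hq)⟩

include M in
theorem exists_z4 {l : List G} (h : Clq D l) (h4 : l.length = 4) : ∃ M' : Model24 G D, z4 M' = l.prod := by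
  obtain ⟨g, rfl⟩ := clq_conj M (clq4 M) h h4 (by simp)
  exact ⟨conjM M g, by rw [prod_map_conj, ← z4_eq]; exact conjM_ev M g rfl⟩

theorem CD_z4 : CD D {z4 M} = SL (env M) Y4 := CD_single k4_1 k4_2 k4_3

theorem z4_mem : z4 M ∈ commutator G := z4_eq M ▸ prod_mem_commutator M (clq4 M).mem (by simp)

theorem z4_order : orderOf (z4 M) = 2 := z4_eq M ▸ clq_orderOf M (clq4 M) (by simp) (by simp)

theorem z4_sq : z4 M * z4 M = 1 := mul_self_of_orderOf (z4_order M)

include M in
/-- a transposition commuting with a product of four is a factor of it -/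
theorem exists_tetrad {l : List G} (h : Clq D l) (h4 : l.length = 4) {d : G} (hd : d ∈ D) (c : Commute l.prod d) :
    ∃ r, Clq D (d :: r) ∧ r.length = 3 ∧ (d :: r).prod = l.prod := by
  obtain ⟨M, rfl⟩ := exists_l M hd
  obtain ⟨y, e⟩ := (mem_range_iff M).2 ⟨prod_mem_commutator M h.mem (by rw [h4]), c.symm⟩
  obtain ⟨ys, a, b, rfl⟩ := F23.inv_prod M23 x0_mem N22 (x := y) (psi_inj M (by
    rw [map_mul, e, map_one, F23.clq_sq M.tt h]))
  have t := clq_tau M a
  by_cases p : ys.length % 2 = 0
  · have := clq_length M h t.tail h4.le (by simp; omega) (by rw [prod_tau, l_pow, if_pos p, one_mul, e])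
    simp at this; omega
  · have q : (M.x 0 :: ys.map (tau M)).prod = l.prod := by
      rw [List.prod_cons, prod_tau, l_pow, if_neg p, mul_self_cancel (l_sq M), e]
    have := clq_length M h t h4.le (by simp; omega) q
    exact ⟨_, t, by simp at this ⊢; omega, q⟩

/-- the centraliser of `l a c e` in the commutator subgroup -/
def C4 : Subgroup G := commutator G ⊓ centralizer {z4 M}

theorem l_comm_z4 : Commute (M.x 0) (z4 M) :=
  z4_eq M ▸ Commute.list_prod_right _ _ fun y hy => (clq4 M).cm _ (by simp) y hy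

theorem C4_trans {d : G} : d ∈ CD D {z4 M} ↔ ∃ g ∈ C4 M, g * M.x 0 * g⁻¹ = d := by
  constructor
  · intro hd
    obtain ⟨r, a, b, c⟩ := exists_tetrad M (clq4 M) rfl hd.1 (z4_eq M ▸ hd.2 _ rfl)
    obtain ⟨g, e⟩ := clq_conj M (clq4 M) a (by simp [b]) (by simp)
    have e1 : g * M.x 0 * g⁻¹ = d := (List.cons.inj e).1.symm
    rw [e, prod_map_conj, ← z4_eq] at c
    have k := mem_centralizer_singleton_iff.2 (conj_eq_self_iff.1 c)
    rcases mem_or_l_mul_mem M g with m | m
    · exact ⟨g, ⟨m, k⟩, e1⟩
    · refine ⟨g * M.x 0, ⟨?_, mul_mem k (mem_centralizer_singleton_iff.2 (l_comm_z4 M))⟩, by rw [← e1]; group⟩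
      simpa using (inferInstance : (commutator G).Normal).conj_mem' _ m (M.x 0)
  · rintro ⟨g, hg, rfl⟩
    refine ⟨M.tt.conj g _ (l_mem M), ?_⟩
    rintro _ rfl
    have := (conj_commute_iff g _ _).2 (l_comm_z4 M).symm
    rwa [conj_eq_self_iff.2 (mem_centralizer_singleton_iff.1 hg.2 : Commute g (z4 M))] at this

theorem card_C4 : Nat.card (C4 M) = 2 ^ 13 * 19595520 := by
  have := card_eq_of_cls' (H := C4 M) (y := M.x 0) (T := CD D {z4 M}) fun _ => C4_trans M
  obtain ⟨ys, a, e⟩ := exists_lift M (clq4 M)
  have b : ys.length = 3 := by simpa using (congrArg List.length e).symm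
  have p : z4 M = psi M ys.prod := by
    rw [z4_eq, List.prod_cons, e, prod_tau, b, ← mul_assoc, ← pow_succ', l_pow, if_pos rfl, one_mul]
  have q : C4 M ⊓ centralizer {M.x 0} = (centralizer {ys.prod}).map (psi M) := by
    ext g
    constructor
    · rintro ⟨⟨h1, h2⟩, h3⟩
      obtain ⟨u, rfl⟩ := (mem_range_iff M).2 ⟨h1, (mem_centralizer_singleton_iff.1 h3 : Commute _ _).symm⟩
      exact ⟨u, mem_centralizer_singleton_iff.2 ((comm_psi M).1 (p ▸ mem_centralizer_singleton_iff.1 h2)), rfl⟩
    · rintro ⟨u, hu, rfl⟩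
      exact ⟨⟨psi_mem_commutator M u, mem_centralizer_singleton_iff.2
        (p ▸ (comm_psi M).2 (mem_centralizer_singleton_iff.1 hu))⟩,
        mem_centralizer_singleton_iff.2 (l_comm_psi M u).symm⟩
  rw [CD_z4, ncard_SL k4_4, k4_5, q, card_map_of_injective (psi_inj M), card_cent3' a b] at this
  rw [this]; norm_num

include M in
/-- the order of the centraliser in the commutator subgroup of a product of four commuting transpositions -/
theorem card_cent4 {l : List G} (h : Clq D l) (h4 : l.length = 4) :
    Nat.card (commutator G ⊓ centralizer {l.prod} : Subgroup G) = 2 ^ 13 * 19595520 := by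
  obtain ⟨M, e⟩ := exists_z4 M h h4
  rw [← e]
  exact card_C4 M

end H96.F24
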