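import Mathlib
import Cfsg.Agent.Lib.Fi24.G24
import Cfsg.Agent.Lib.Fi24.Net5
import Cfsg.Agent.Lib.Fi24.Net6
import Cfsg.Agent.Lib.Fi24.Net7
import Cfsg.Agent.Lib.Fi24.Net8
import Cfsg.Agent.Lib.Fi24.Tab1
import Cfsg.Agent.Lib.Fi24.Tab2
import Cfsg.Agent.Lib.Fi24.Tab3

/-!
The alphabet of Fi24 (helper96; tools/fi24/mkext.py).  Letters 0-11: l k a b c d e f g j h i; 12-26: the
letters 10-24 of the alphabet `H7.F23.A` (elements of the centraliser of the point 0); 27-30: two further
elements (of orders 23 and 29) and their inverses.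
-/

set_option autoImplicit false
set_option maxRecDepth 100000

namespace H96.F24

open H7 H54 H94

noncomputable def TB : Tr := (.node (nat_lit 13199) (.node (nat_lit 10199) (.node (nat_lit 8999) (.node (nat_lit 8399) (.node (nat_lit 7799) tb12
 tb13)
 tb14)
 (.node (nat_lit 9599) tb15
 tb16))
 (.node (nat_lit 11999) (.node (nat_lit 11399) (.node (nat_lit 10799) tb17
 tb18)
 tb19)
 (.node (nat_lit 12599) tb20
 tb21)))
 (.node (nat_lit 16199) (.node (nat_lit 14999) (.node (nat_lit 14399) (.node (nat_lit 13799) tb22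
 tb23)
 tb24)
 (.node (nat_lit 15599) tb25
 tb26))
 (.node (nat_lit 17399) (.node (nat_lit 16799) tb27
 tb28)
 (.node (nat_lit 17999) tb29
 tb30))))

noncomputable def NB : NT := (.node (nat_lit 21) (.node (nat_lit 16) (.node (nat_lit 14) (.node (nat_lit 13) (.node (nat_lit 12) (.leaf nt12)
 (.leaf nt13))
 (.leaf nt13))
 (.node (nat_lit 15) (.leaf nt15)
 (.leaf nt15)))
 (.node (nat_lit 19) (.node (nat_lit 18) (.node (nat_lit 17) (.leaf nt17)
 (.leaf nt17))
 (.leaf nt19))
 (.node (nat_lit 20) (.leaf nt19)
 (.leaf nt21))))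
 (.node (nat_lit 26) (.node (nat_lit 24) (.node (nat_lit 23) (.node (nat_lit 22) (.leaf nt21)
 (.leaf nt23))
 (.leaf nt23))
 (.node (nat_lit 25) (.leaf nt25)
 (.leaf nt25)))
 (.node (nat_lit 28) (.node (nat_lit 27) (.leaf nt27)
 (.leaf nt27))
 (.node (nat_lit 29) (.leaf nt29)
 (.leaf nt29)))))

noncomputable def NA : NT := .node (nat_lit 11) NG NB

noncomputable def tabB (k u : ℕ) : ℕ :=
  look TB (nat_lit 9) (nat_lit 511) (nat_lit 19) (nat_lit 524287) (Nat.mul k (nat_lit 600)) u

noncomputable def tabA (k u : ℕ) : ℕ := Bool.rec (tab24 k u) (tabB k u) (Nat.ble (nat_lit 12) k)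
noncomputable def preA (k X : ℕ) : ℕ := preN (NA.get k) (tb 715833343 k) X
noncomputable def imgA (k X : ℕ) : ℕ := imgN (NA.get k) (tb 715833343 k) X
noncomputable def ivA (k : ℕ) : ℕ := nth [0, 1, 2, 3, 4, 5, 6, 7, 8, 9, 10, 11, 12, 14, 13, 16, 15, 18, 17, 20, 19, 22, 21, 24, 23, 26, 25, 28, 27, 30, 29] k

/-- the letters up to 26 -/
noncomputable def A1 : Alph := ⟨306936, 19, 27, 0, 0, 19, 16155, cm0, tabA, preA, imgA, ivA⟩

/-- the 31 letters -/
noncomputable def A : Alph := ⟨306936, 19, 31, 0, 0, 19, 16155, cm0, tabA, preA, imgA, ivA⟩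

/-- the letters of `A1` as words in the generators -/
noncomputable def df1 (k : ℕ) : W := nthW [(W.dec 0x1), (W.dec 0x2), (W.dec 0x3), (W.dec 0x4), (W.dec 0x5), (W.dec 0x6), (W.dec 0x7), (W.dec 0x8), (W.dec 0x9), (W.dec 0xa), (W.dec 0xb), (W.dec 0xc), (W.dec 0xb0908070605040b0908070605040b0908070605040b0908070605040b0908070605040b0908070605040b0908070605040b0908070605040b090807060504), (W.dec 0x703060c040506050304070c0503040b0c08070c0605070805070b05080b06040c06070b), (W.dec 0xb07060c04060b08050b0705080705060c07080c0b0403050c070403050605040c060307), (W.dec 0x806050605070c0b0c08050b0308060405060b0807060407050806070403060b040c040706), (W.dec 0x607040c040b0603040706080507040607080b0605040608030b05080c0b0c070506050608), (W.dec 0x807080506040c040c030c060803050b030b070b060807030608050c040607040c04050b), (W.dec 0xb05040c040706040c050806030708060b070b030b050308060c030c040c040605080708), (W.dec 0x80309060c05080506030904080703060b090603080504090c06070b06050309050304080c070b070c040b030908040b0705), (W.dec 0x5070b040809030b040c070b070c08040305090305060b07060c090405080306090b06030708040903060508050c06090308),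 (W.dec 0x5070907030807060b0c070b040904060904080703070805090706090b040c0507060708090c070b030504080506050b090406), (W.dec 0x604090b050605080405030b070c0908070607050c040b090607090508070307080409060409040b070c0b0607080307090705), (W.dec 0x80c030a04080703090a060708090c05060307040a0603070b040b0a05030b0904090a0c070a0709070607080305030803070609040b03060b090b0a06030c07), (W.dec 0x70c03060a0b090b06030b0409060703080305030807060709070a070c0a0904090b03050a0b040b0703060a04070306050c090807060a09030708040a030c08), (W.dec 0x3060b060c04050b0507030c08050c08030a04060509050a050a04090304050b060c030508090607060a030a060a070b070608070905060b060c05060807040a08), (W.dec 0x80a04070806050c060b060509070806070b070a060a030a060706090805030c060b05040309040a050a05090506040a03080c05080c0307050b05040c060b0603)] k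

/-- the letters of `A` as words in the letters of `A1` -/
noncomputable def df2 (k : ℕ) : W := nthW [(W.dec 0x1), (W.dec 0x2), (W.dec 0x3), (W.dec 0x4), (W.dec 0x5), (W.dec 0x6), (W.dec 0x7), (W.dec 0x8), (W.dec 0x9), (W.dec 0xa), (W.dec 0xb), (W.dec 0xc), (W.dec 0xd), (W.dec 0xe), (W.dec 0xf), (W.dec 0x10), (W.dec 0x11), (W.dec 0x12), (W.dec 0x13), (W.dec 0x14), (W.dec 0x15), (W.dec 0x16), (W.dec 0x17), (W.dec 0x18), (W.dec 0x19), (W.dec 0x1a), (W.dec 0x1b), (W.dec 0x1b19021813020f160f021718), (W.dec 0x1916020e170e02121902181a), (W.dec 0x1151b021919021a1a13021216), (W.dec 0x171302121b1b021818021a1401)] k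

noncomputable def chkM (k : ℕ) : Bool := Pc.netOk 306936 (NA.get k) (tb 715833343 k)
noncomputable def chkQ (k i : ℕ) : Bool :=
  Pc.piece (min 306936 (64 * (600 * i + 600))) 19 (NA.get k) (tb 715833343 k) (tabB k) (600 * i) 600

end H96.F24
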