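import Mathlib
import Cfsg.Agent.Lib.Fi24.A24

/-! The definitions of the letters, plane by plane (helper96). -/

set_option autoImplicit false
set_option maxRecDepth 100000
set_option Elab.async false

namespace H96.F24

open H7 H54

theorem pl12_0 : Pc.plOk A0 A1 12 (df1 12) 0 = true := by decide +kernel
theorem pl12_1 : Pc.plOk A0 A1 12 (df1 12) 1 = true := by decide +kernel
theorem pl12_2 : Pc.plOk A0 A1 12 (df1 12) 2 = true := by decide +kernel
theorem pl12_3 : Pc.plOk A0 A1 12 (df1 12) 3 = true := by decide +kernel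
theorem pl12_4 : Pc.plOk A0 A1 12 (df1 12) 4 = true := by decide +kernel
theorem pl12_5 : Pc.plOk A0 A1 12 (df1 12) 5 = true := by decide +kernel
theorem pl12_6 : Pc.plOk A0 A1 12 (df1 12) 6 = true := by decide +kernel
theorem pl12_7 : Pc.plOk A0 A1 12 (df1 12) 7 = true := by decide +kernel
theorem pl12_8 : Pc.plOk A0 A1 12 (df1 12) 8 = true := by decide +kernel
theorem pl12_9 : Pc.plOk A0 A1 12 (df1 12) 9 = true := by decide +kernel
theorem pl12_10 : Pc.plOk A0 A1 12 (df1 12) 10 = true := by decide +kernel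
theorem pl12_11 : Pc.plOk A0 A1 12 (df1 12) 11 = true := by decide +kernel
theorem pl12_12 : Pc.plOk A0 A1 12 (df1 12) 12 = true := by decide +kernel
theorem pl12_13 : Pc.plOk A0 A1 12 (df1 12) 13 = true := by decide +kernel
theorem pl12_14 : Pc.plOk A0 A1 12 (df1 12) 14 = true := by decide +kernel
theorem pl12_15 : Pc.plOk A0 A1 12 (df1 12) 15 = true := by decide +kernel
theorem pl12_16 : Pc.plOk A0 A1 12 (df1 12) 16 = true := by decide +kernel
theorem pl12_17 : Pc.plOk A0 A1 12 (df1 12) 17 = true := by decide +kernel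
theorem pl12_18 : Pc.plOk A0 A1 12 (df1 12) 18 = true := by decide +kernel
theorem pl12 (b : ℕ) (hb : b < 19) : Pc.plOk A0 A1 12 (df1 12) b = true := by
  interval_cases b
  exacts [pl12_0, pl12_1, pl12_2, pl12_3, pl12_4, pl12_5, pl12_6, pl12_7, pl12_8, pl12_9, pl12_10, pl12_11, pl12_12, pl12_13, pl12_14, pl12_15, pl12_16, pl12_17, pl12_18]

theorem pl13_0 : Pc.plOk A0 A1 13 (df1 13) 0 = true := by decide +kernel
theorem pl13_1 : Pc.plOk A0 A1 13 (df1 13) 1 = true := by decide +kernel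
theorem pl13_2 : Pc.plOk A0 A1 13 (df1 13) 2 = true := by decide +kernel
theorem pl13_3 : Pc.plOk A0 A1 13 (df1 13) 3 = true := by decide +kernel
theorem pl13_4 : Pc.plOk A0 A1 13 (df1 13) 4 = true := by decide +kernel
theorem pl13_5 : Pc.plOk A0 A1 13 (df1 13) 5 = true := by decide +kernel
theorem pl13_6 : Pc.plOk A0 A1 13 (df1 13) 6 = true := by decide +kernel
theorem pl13_7 : Pc.plOk A0 A1 13 (df1 13) 7 = true := by decide +kernel
theorem pl13_8 : Pc.plOk A0 A1 13 (df1 13) 8 = true := by decide +kernel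
theorem pl13_9 : Pc.plOk A0 A1 13 (df1 13) 9 = true := by decide +kernel
theorem pl13_10 : Pc.plOk A0 A1 13 (df1 13) 10 = true := by decide +kernel
theorem pl13_11 : Pc.plOk A0 A1 13 (df1 13) 11 = true := by decide +kernel
theorem pl13_12 : Pc.plOk A0 A1 13 (df1 13) 12 = true := by decide +kernel
theorem pl13_13 : Pc.plOk A0 A1 13 (df1 13) 13 = true := by decide +kernel
theorem pl13_14 : Pc.plOk A0 A1 13 (df1 13) 14 = true := by decide +kernel
theorem pl13_15 : Pc.plOk A0 A1 13 (df1 13) 15 = true := by decide +kernel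
theorem pl13_16 : Pc.plOk A0 A1 13 (df1 13) 16 = true := by decide +kernel
theorem pl13_17 : Pc.plOk A0 A1 13 (df1 13) 17 = true := by decide +kernel
theorem pl13_18 : Pc.plOk A0 A1 13 (df1 13) 18 = true := by decide +kernel
theorem pl13 (b : ℕ) (hb : b < 19) : Pc.plOk A0 A1 13 (df1 13) b = true := by
  interval_cases b
  exacts [pl13_0, pl13_1, pl13_2, pl13_3, pl13_4, pl13_5, pl13_6, pl13_7, pl13_8, pl13_9, pl13_10, pl13_11, pl13_12, pl13_13, pl13_14, pl13_15, pl13_16, pl13_17, pl13_18]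

theorem pl15_0 : Pc.plOk A0 A1 15 (df1 15) 0 = true := by decide +kernel
theorem pl15_1 : Pc.plOk A0 A1 15 (df1 15) 1 = true := by decide +kernel
theorem pl15_2 : Pc.plOk A0 A1 15 (df1 15) 2 = true := by decide +kernel
theorem pl15_3 : Pc.plOk A0 A1 15 (df1 15) 3 = true := by decide +kernel
theorem pl15_4 : Pc.plOk A0 A1 15 (df1 15) 4 = true := by decide +kernel
theorem pl15_5 : Pc.plOk A0 A1 15 (df1 15) 5 = true := by decide +kernel
theorem pl15_6 : Pc.plOk A0 A1 15 (df1 15) 6 = true := by decide +kernel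
theorem pl15_7 : Pc.plOk A0 A1 15 (df1 15) 7 = true := by decide +kernel
theorem pl15_8 : Pc.plOk A0 A1 15 (df1 15) 8 = true := by decide +kernel
theorem pl15_9 : Pc.plOk A0 A1 15 (df1 15) 9 = true := by decide +kernel
theorem pl15_10 : Pc.plOk A0 A1 15 (df1 15) 10 = true := by decide +kernel
theorem pl15_11 : Pc.plOk A0 A1 15 (df1 15) 11 = true := by decide +kernel
theorem pl15_12 : Pc.plOk A0 A1 15 (df1 15) 12 = true := by decide +kernel
theorem pl15_13 : Pc.plOk A0 A1 15 (df1 15) 13 = true := by decide +kernel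
theorem pl15_14 : Pc.plOk A0 A1 15 (df1 15) 14 = true := by decide +kernel
theorem pl15_15 : Pc.plOk A0 A1 15 (df1 15) 15 = true := by decide +kernel
theorem pl15_16 : Pc.plOk A0 A1 15 (df1 15) 16 = true := by decide +kernel
theorem pl15_17 : Pc.plOk A0 A1 15 (df1 15) 17 = true := by decide +kernel
theorem pl15_18 : Pc.plOk A0 A1 15 (df1 15) 18 = true := by decide +kernel
theorem pl15 (b : ℕ) (hb : b < 19) : Pc.plOk A0 A1 15 (df1 15) b = true := by
  interval_cases b
  exacts [pl15_0, pl15_1, pl15_2, pl15_3, pl15_4, pl15_5, pl15_6, pl15_7, pl15_8, pl15_9, pl15_10, pl15_11, pl15_12, pl15_13, pl15_14, pl15_15, pl15_16, pl15_17, pl15_18]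

theorem pl17_0 : Pc.plOk A0 A1 17 (df1 17) 0 = true := by decide +kernel
theorem pl17_1 : Pc.plOk A0 A1 17 (df1 17) 1 = true := by decide +kernel
theorem pl17_2 : Pc.plOk A0 A1 17 (df1 17) 2 = true := by decide +kernel
theorem pl17_3 : Pc.plOk A0 A1 17 (df1 17) 3 = true := by decide +kernel
theorem pl17_4 : Pc.plOk A0 A1 17 (df1 17) 4 = true := by decide +kernel
theorem pl17_5 : Pc.plOk A0 A1 17 (df1 17) 5 = true := by decide +kernel
theorem pl17_6 : Pc.plOk A0 A1 17 (df1 17) 6 = true := by decide +kernel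
theorem pl17_7 : Pc.plOk A0 A1 17 (df1 17) 7 = true := by decide +kernel
theorem pl17_8 : Pc.plOk A0 A1 17 (df1 17) 8 = true := by decide +kernel
theorem pl17_9 : Pc.plOk A0 A1 17 (df1 17) 9 = true := by decide +kernel
theorem pl17_10 : Pc.plOk A0 A1 17 (df1 17) 10 = true := by decide +kernel
theorem pl17_11 : Pc.plOk A0 A1 17 (df1 17) 11 = true := by decide +kernel
theorem pl17_12 : Pc.plOk A0 A1 17 (df1 17) 12 = true := by decide +kernel
theorem pl17_13 : Pc.plOk A0 A1 17 (df1 17) 13 = true := by decide +kernel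
theorem pl17_14 : Pc.plOk A0 A1 17 (df1 17) 14 = true := by decide +kernel
theorem pl17_15 : Pc.plOk A0 A1 17 (df1 17) 15 = true := by decide +kernel
theorem pl17_16 : Pc.plOk A0 A1 17 (df1 17) 16 = true := by decide +kernel
theorem pl17_17 : Pc.plOk A0 A1 17 (df1 17) 17 = true := by decide +kernel
theorem pl17_18 : Pc.plOk A0 A1 17 (df1 17) 18 = true := by decide +kernel
theorem pl17 (b : ℕ) (hb : b < 19) : Pc.plOk A0 A1 17 (df1 17) b = true := by
  interval_cases b
  exacts [pl17_0, pl17_1, pl17_2, pl17_3, pl17_4, pl17_5, pl17_6, pl17_7, pl17_8, pl17_9, pl17_10, pl17_11, pl17_12, pl17_13, pl17_14, pl17_15, pl17_16, pl17_17, pl17_18]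

theorem pl19_0 : Pc.plOk A0 A1 19 (df1 19) 0 = true := by decide +kernel
theorem pl19_1 : Pc.plOk A0 A1 19 (df1 19) 1 = true := by decide +kernel
theorem pl19_2 : Pc.plOk A0 A1 19 (df1 19) 2 = true := by decide +kernel
theorem pl19_3 : Pc.plOk A0 A1 19 (df1 19) 3 = true := by decide +kernel
theorem pl19_4 : Pc.plOk A0 A1 19 (df1 19) 4 = true := by decide +kernel
theorem pl19_5 : Pc.plOk A0 A1 19 (df1 19) 5 = true := by decide +kernel
theorem pl19_6 : Pc.plOk A0 A1 19 (df1 19) 6 = true := by decide +kernel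
theorem pl19_7 : Pc.plOk A0 A1 19 (df1 19) 7 = true := by decide +kernel
theorem pl19_8 : Pc.plOk A0 A1 19 (df1 19) 8 = true := by decide +kernel
theorem pl19_9 : Pc.plOk A0 A1 19 (df1 19) 9 = true := by decide +kernel
theorem pl19_10 : Pc.plOk A0 A1 19 (df1 19) 10 = true := by decide +kernel
theorem pl19_11 : Pc.plOk A0 A1 19 (df1 19) 11 = true := by decide +kernel
theorem pl19_12 : Pc.plOk A0 A1 19 (df1 19) 12 = true := by decide +kernel
theorem pl19_13 : Pc.plOk A0 A1 19 (df1 19) 13 = true := by decide +kernel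
theorem pl19_14 : Pc.plOk A0 A1 19 (df1 19) 14 = true := by decide +kernel
theorem pl19_15 : Pc.plOk A0 A1 19 (df1 19) 15 = true := by decide +kernel
theorem pl19_16 : Pc.plOk A0 A1 19 (df1 19) 16 = true := by decide +kernel
theorem pl19_17 : Pc.plOk A0 A1 19 (df1 19) 17 = true := by decide +kernel
theorem pl19_18 : Pc.plOk A0 A1 19 (df1 19) 18 = true := by decide +kernel
theorem pl19 (b : ℕ) (hb : b < 19) : Pc.plOk A0 A1 19 (df1 19) b = true := by
  interval_cases b
  exacts [pl19_0, pl19_1, pl19_2, pl19_3, pl19_4, pl19_5, pl19_6, pl19_7, pl19_8, pl19_9, pl19_10, pl19_11, pl19_12, pl19_13, pl19_14, pl19_15, pl19_16, pl19_17, pl19_18]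

theorem pl21_0 : Pc.plOk A0 A1 21 (df1 21) 0 = true := by decide +kernel
theorem pl21_1 : Pc.plOk A0 A1 21 (df1 21) 1 = true := by decide +kernel
theorem pl21_2 : Pc.plOk A0 A1 21 (df1 21) 2 = true := by decide +kernel
theorem pl21_3 : Pc.plOk A0 A1 21 (df1 21) 3 = true := by decide +kernel
theorem pl21_4 : Pc.plOk A0 A1 21 (df1 21) 4 = true := by decide +kernel
theorem pl21_5 : Pc.plOk A0 A1 21 (df1 21) 5 = true := by decide +kernel
theorem pl21_6 : Pc.plOk A0 A1 21 (df1 21) 6 = true := by decide +kernel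
theorem pl21_7 : Pc.plOk A0 A1 21 (df1 21) 7 = true := by decide +kernel
theorem pl21_8 : Pc.plOk A0 A1 21 (df1 21) 8 = true := by decide +kernel
theorem pl21_9 : Pc.plOk A0 A1 21 (df1 21) 9 = true := by decide +kernel
theorem pl21_10 : Pc.plOk A0 A1 21 (df1 21) 10 = true := by decide +kernel
theorem pl21_11 : Pc.plOk A0 A1 21 (df1 21) 11 = true := by decide +kernel
theorem pl21_12 : Pc.plOk A0 A1 21 (df1 21) 12 = true := by decide +kernel
theorem pl21_13 : Pc.plOk A0 A1 21 (df1 21) 13 = true := by decide +kernel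
theorem pl21_14 : Pc.plOk A0 A1 21 (df1 21) 14 = true := by decide +kernel
theorem pl21_15 : Pc.plOk A0 A1 21 (df1 21) 15 = true := by decide +kernel
theorem pl21_16 : Pc.plOk A0 A1 21 (df1 21) 16 = true := by decide +kernel
theorem pl21_17 : Pc.plOk A0 A1 21 (df1 21) 17 = true := by decide +kernel
theorem pl21_18 : Pc.plOk A0 A1 21 (df1 21) 18 = true := by decide +kernel
theorem pl21 (b : ℕ) (hb : b < 19) : Pc.plOk A0 A1 21 (df1 21) b = true := by
  interval_cases b
  exacts [pl21_0, pl21_1, pl21_2, pl21_3, pl21_4, pl21_5, pl21_6, pl21_7, pl21_8, pl21_9, pl21_10, pl21_11, pl21_12, pl21_13, pl21_14, pl21_15, pl21_16, pl21_17, pl21_18]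

theorem pl23_0 : Pc.plOk A0 A1 23 (df1 23) 0 = true := by decide +kernel
theorem pl23_1 : Pc.plOk A0 A1 23 (df1 23) 1 = true := by decide +kernel
theorem pl23_2 : Pc.plOk A0 A1 23 (df1 23) 2 = true := by decide +kernel
theorem pl23_3 : Pc.plOk A0 A1 23 (df1 23) 3 = true := by decide +kernel
theorem pl23_4 : Pc.plOk A0 A1 23 (df1 23) 4 = true := by decide +kernel
theorem pl23_5 : Pc.plOk A0 A1 23 (df1 23) 5 = true := by decide +kernel
theorem pl23_6 : Pc.plOk A0 A1 23 (df1 23) 6 = true := by decide +kernel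
theorem pl23_7 : Pc.plOk A0 A1 23 (df1 23) 7 = true := by decide +kernel
theorem pl23_8 : Pc.plOk A0 A1 23 (df1 23) 8 = true := by decide +kernel
theorem pl23_9 : Pc.plOk A0 A1 23 (df1 23) 9 = true := by decide +kernel
theorem pl23_10 : Pc.plOk A0 A1 23 (df1 23) 10 = true := by decide +kernel
theorem pl23_11 : Pc.plOk A0 A1 23 (df1 23) 11 = true := by decide +kernel
theorem pl23_12 : Pc.plOk A0 A1 23 (df1 23) 12 = true := by decide +kernel
theorem pl23_13 : Pc.plOk A0 A1 23 (df1 23) 13 = true := by decide +kernel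
theorem pl23_14 : Pc.plOk A0 A1 23 (df1 23) 14 = true := by decide +kernel
theorem pl23_15 : Pc.plOk A0 A1 23 (df1 23) 15 = true := by decide +kernel
theorem pl23_16 : Pc.plOk A0 A1 23 (df1 23) 16 = true := by decide +kernel
theorem pl23_17 : Pc.plOk A0 A1 23 (df1 23) 17 = true := by decide +kernel
theorem pl23_18 : Pc.plOk A0 A1 23 (df1 23) 18 = true := by decide +kernel
theorem pl23 (b : ℕ) (hb : b < 19) : Pc.plOk A0 A1 23 (df1 23) b = true := by
  interval_cases b
  exacts [pl23_0, pl23_1, pl23_2, pl23_3, pl23_4, pl23_5, pl23_6, pl23_7, pl23_8, pl23_9, pl23_10, pl23_11, pl23_12, pl23_13, pl23_14, pl23_15, pl23_16, pl23_17, pl23_18]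

theorem pl25_0 : Pc.plOk A0 A1 25 (df1 25) 0 = true := by decide +kernel
theorem pl25_1 : Pc.plOk A0 A1 25 (df1 25) 1 = true := by decide +kernel
theorem pl25_2 : Pc.plOk A0 A1 25 (df1 25) 2 = true := by decide +kernel
theorem pl25_3 : Pc.plOk A0 A1 25 (df1 25) 3 = true := by decide +kernel
theorem pl25_4 : Pc.plOk A0 A1 25 (df1 25) 4 = true := by decide +kernel
theorem pl25_5 : Pc.plOk A0 A1 25 (df1 25) 5 = true := by decide +kernel
theorem pl25_6 : Pc.plOk A0 A1 25 (df1 25) 6 = true := by decide +kernel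
theorem pl25_7 : Pc.plOk A0 A1 25 (df1 25) 7 = true := by decide +kernel
theorem pl25_8 : Pc.plOk A0 A1 25 (df1 25) 8 = true := by decide +kernel
theorem pl25_9 : Pc.plOk A0 A1 25 (df1 25) 9 = true := by decide +kernel
theorem pl25_10 : Pc.plOk A0 A1 25 (df1 25) 10 = true := by decide +kernel
theorem pl25_11 : Pc.plOk A0 A1 25 (df1 25) 11 = true := by decide +kernel
theorem pl25_12 : Pc.plOk A0 A1 25 (df1 25) 12 = true := by decide +kernel
theorem pl25_13 : Pc.plOk A0 A1 25 (df1 25) 13 = true := by decide +kernel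
theorem pl25_14 : Pc.plOk A0 A1 25 (df1 25) 14 = true := by decide +kernel
theorem pl25_15 : Pc.plOk A0 A1 25 (df1 25) 15 = true := by decide +kernel
theorem pl25_16 : Pc.plOk A0 A1 25 (df1 25) 16 = true := by decide +kernel
theorem pl25_17 : Pc.plOk A0 A1 25 (df1 25) 17 = true := by decide +kernel
theorem pl25_18 : Pc.plOk A0 A1 25 (df1 25) 18 = true := by decide +kernel
theorem pl25 (b : ℕ) (hb : b < 19) : Pc.plOk A0 A1 25 (df1 25) b = true := by
  interval_cases b
  exacts [pl25_0, pl25_1, pl25_2, pl25_3, pl25_4, pl25_5, pl25_6, pl25_7, pl25_8, pl25_9, pl25_10, pl25_11, pl25_12, pl25_13, pl25_14, pl25_15, pl25_16, pl25_17, pl25_18]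

theorem pl27_0 : Pc.plOk A1 A 27 (df2 27) 0 = true := by decide +kernel
theorem pl27_1 : Pc.plOk A1 A 27 (df2 27) 1 = true := by decide +kernel
theorem pl27_2 : Pc.plOk A1 A 27 (df2 27) 2 = true := by decide +kernel
theorem pl27_3 : Pc.plOk A1 A 27 (df2 27) 3 = true := by decide +kernel
theorem pl27_4 : Pc.plOk A1 A 27 (df2 27) 4 = true := by decide +kernel
theorem pl27_5 : Pc.plOk A1 A 27 (df2 27) 5 = true := by decide +kernel
theorem pl27_6 : Pc.plOk A1 A 27 (df2 27) 6 = true := by decide +kernel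
theorem pl27_7 : Pc.plOk A1 A 27 (df2 27) 7 = true := by decide +kernel
theorem pl27_8 : Pc.plOk A1 A 27 (df2 27) 8 = true := by decide +kernel
theorem pl27_9 : Pc.plOk A1 A 27 (df2 27) 9 = true := by decide +kernel
theorem pl27_10 : Pc.plOk A1 A 27 (df2 27) 10 = true := by decide +kernel
theorem pl27_11 : Pc.plOk A1 A 27 (df2 27) 11 = true := by decide +kernel
theorem pl27_12 : Pc.plOk A1 A 27 (df2 27) 12 = true := by decide +kernel
theorem pl27_13 : Pc.plOk A1 A 27 (df2 27) 13 = true := by decide +kernel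
theorem pl27_14 : Pc.plOk A1 A 27 (df2 27) 14 = true := by decide +kernel
theorem pl27_15 : Pc.plOk A1 A 27 (df2 27) 15 = true := by decide +kernel
theorem pl27_16 : Pc.plOk A1 A 27 (df2 27) 16 = true := by decide +kernel
theorem pl27_17 : Pc.plOk A1 A 27 (df2 27) 17 = true := by decide +kernel
theorem pl27_18 : Pc.plOk A1 A 27 (df2 27) 18 = true := by decide +kernel
theorem pl27 (b : ℕ) (hb : b < 19) : Pc.plOk A1 A 27 (df2 27) b = true := by
  interval_cases b
  exacts [pl27_0, pl27_1, pl27_2, pl27_3, pl27_4, pl27_5, pl27_6, pl27_7, pl27_8, pl27_9, pl27_10, pl27_11, pl27_12, pl27_13, pl27_14, pl27_15, pl27_16, pl27_17, pl27_18]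

theorem pl29_0 : Pc.plOk A1 A 29 (df2 29) 0 = true := by decide +kernel
theorem pl29_1 : Pc.plOk A1 A 29 (df2 29) 1 = true := by decide +kernel
theorem pl29_2 : Pc.plOk A1 A 29 (df2 29) 2 = true := by decide +kernel
theorem pl29_3 : Pc.plOk A1 A 29 (df2 29) 3 = true := by decide +kernel
theorem pl29_4 : Pc.plOk A1 A 29 (df2 29) 4 = true := by decide +kernel
theorem pl29_5 : Pc.plOk A1 A 29 (df2 29) 5 = true := by decide +kernel
theorem pl29_6 : Pc.plOk A1 A 29 (df2 29) 6 = true := by decide +kernel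
theorem pl29_7 : Pc.plOk A1 A 29 (df2 29) 7 = true := by decide +kernel
theorem pl29_8 : Pc.plOk A1 A 29 (df2 29) 8 = true := by decide +kernel
theorem pl29_9 : Pc.plOk A1 A 29 (df2 29) 9 = true := by decide +kernel
theorem pl29_10 : Pc.plOk A1 A 29 (df2 29) 10 = true := by decide +kernel
theorem pl29_11 : Pc.plOk A1 A 29 (df2 29) 11 = true := by decide +kernel
theorem pl29_12 : Pc.plOk A1 A 29 (df2 29) 12 = true := by decide +kernel
theorem pl29_13 : Pc.plOk A1 A 29 (df2 29) 13 = true := by decide +kernel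
theorem pl29_14 : Pc.plOk A1 A 29 (df2 29) 14 = true := by decide +kernel
theorem pl29_15 : Pc.plOk A1 A 29 (df2 29) 15 = true := by decide +kernel
theorem pl29_16 : Pc.plOk A1 A 29 (df2 29) 16 = true := by decide +kernel
theorem pl29_17 : Pc.plOk A1 A 29 (df2 29) 17 = true := by decide +kernel
theorem pl29_18 : Pc.plOk A1 A 29 (df2 29) 18 = true := by decide +kernel
theorem pl29 (b : ℕ) (hb : b < 19) : Pc.plOk A1 A 29 (df2 29) b = true := by
  interval_cases b
  exacts [pl29_0, pl29_1, pl29_2, pl29_3, pl29_4, pl29_5, pl29_6, pl29_7, pl29_8, pl29_9, pl29_10, pl29_11, pl29_12, pl29_13, pl29_14, pl29_15, pl29_16, pl29_17, pl29_18]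

end H96.F24
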